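import Mathlib

/-!
# Tor of the residue field over a ring with `ann a = (b)`, `ann b = (a)`, `(a) ∩ (b) = 0`
-/

set_option autoImplicit false
set_option linter.style.haveILetI false
set_option linter.unusedSectionVars false
universe u

open CategoryTheory TensorProduct

noncomputable section

namespace Groth.Agent.TorNode

variable {R : Type u} [CommRing R] (a b : R)

/-- Hypotheses on the pair of annihilating elements. -/
structure Pair (a b : R) : Prop where
  mul : a * b = 0
  ann_a : ∀ u, a * u = 0 → ∃ w, b * w = u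
  ann_b : ∀ v, b * v = 0 → ∃ w, a * w = v
  indep : ∀ u v, a * u + b * v = 0 → b * v = 0

def X : ℕ → ModuleCat.{u} R
  | 0 => ModuleCat.of R R
  | _ + 1 => ModuleCat.of R (R × R)

def rowMap : R × R →ₗ[R] R := (LinearMap.mulLeft R a).coprod (LinearMap.mulLeft R b)

def diagMap : R × R →ₗ[R] R × R := (LinearMap.mulLeft R b).prodMap (LinearMap.mulLeft R a)

lemma rowMap_apply (p : R × R) : rowMap a b p = a * p.1 + b * p.2 := rfl

lemma diagMap_apply (p : R × R) : diagMap a b p = (b * p.1, a * p.2) := rfl

def d : ∀ i, X (R := R) (i + 1) ⟶ X i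
  | 0 => ModuleCat.ofHom (rowMap a b)
  | i + 1 => ModuleCat.ofHom (if Even i then diagMap a b else diagMap b a)

variable {a b} (h : Pair a b)

include h

lemma exact_row : Function.Exact (diagMap a b) (rowMap a b) := by
  intro p
  constructor
  · intro hp
    rw [rowMap_apply] at hp
    have h2 := h.indep _ _ hp
    have h1 : a * p.1 = 0 := by rw [h2, add_zero] at hp; exact hp
    obtain ⟨w₁, hw₁⟩ := h.ann_a _ h1
    obtain ⟨w₂, hw₂⟩ := h.ann_b _ h2
    exact ⟨(w₁, w₂), Prod.ext hw₁ hw₂⟩
  · rintro ⟨q, rfl⟩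
    rw [rowMap_apply, diagMap_apply]
    linear_combination (q.1 + q.2) * h.mul

lemma exact_diag : Function.Exact (diagMap b a) (diagMap a b) := by
  intro p
  constructor
  · intro hp
    rw [diagMap_apply, Prod.mk_eq_zero] at hp
    obtain ⟨w₁, hw₁⟩ := h.ann_b _ hp.1
    obtain ⟨w₂, hw₂⟩ := h.ann_a _ hp.2
    exact ⟨(w₁, w₂), Prod.ext hw₁ hw₂⟩
  · rintro ⟨q, rfl⟩
    rw [diagMap_apply, diagMap_apply, Prod.mk_eq_zero]
    exact ⟨by linear_combination q.1 * h.mul, by linear_combination q.2 * h.mul⟩

lemma exact_diag' : Function.Exact (diagMap a b) (diagMap b a) := by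
  intro p
  constructor
  · intro hp
    rw [diagMap_apply, Prod.mk_eq_zero] at hp
    obtain ⟨w₁, hw₁⟩ := h.ann_a _ hp.1
    obtain ⟨w₂, hw₂⟩ := h.ann_b _ hp.2
    exact ⟨(w₁, w₂), Prod.ext hw₁ hw₂⟩
  · rintro ⟨q, rfl⟩
    rw [diagMap_apply, diagMap_apply, Prod.mk_eq_zero]
    exact ⟨by linear_combination q.1 * h.mul, by linear_combination q.2 * h.mul⟩

lemma exact_d (i : ℕ) : Function.Exact (d a b (i + 1)).hom (d a b i).hom := by
  cases i with
  | zero => exact (exact_row h :)
  | succ i =>
    show Function.Exact (ModuleCat.ofHom (if Even (i + 1) then diagMap a b else diagMap b a)).hom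
      (ModuleCat.ofHom (if Even i then diagMap a b else diagMap b a)).hom
    rcases Nat.even_or_odd i with hi | hi
    · rw [if_pos hi, if_neg (Nat.not_even_iff_odd.2 hi.add_one)]
      exact exact_diag h
    · rw [if_neg (Nat.not_even_iff_odd.2 hi), if_pos hi.add_one]
      exact exact_diag' h

def cplx : ChainComplex (ModuleCat.{u} R) ℕ :=
  ChainComplex.of X (d a b) fun i => ModuleCat.hom_ext (exact_d h i).linearMap_comp_eq_zero

lemma cplx_d (i : ℕ) : (cplx h).d (i + 1) i = d a b i := ChainComplex.of_d X (d a b) i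

def augHom : (cplx h).X 0 ⟶ ModuleCat.of R (R ⧸ Ideal.span {a, b}) :=
  ModuleCat.ofHom (Submodule.mkQ (Ideal.span {a, b}))

lemma exact_aug : Function.Exact (rowMap a b) (Submodule.mkQ (Ideal.span {a, b})) := by
  intro x
  rw [Submodule.mkQ_apply, Submodule.Quotient.mk_eq_zero, Ideal.mem_span_pair]
  constructor
  · rintro ⟨c, e, rfl⟩
    exact ⟨(c, e), by rw [rowMap_apply]; ring⟩
  · rintro ⟨p, rfl⟩
    exact ⟨p.1, p.2, by rw [rowMap_apply]; ring⟩

lemma d_augHom : (cplx h).d 1 0 ≫ augHom h = 0 := by
  rw [cplx_d]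
  exact ModuleCat.hom_ext (exact_aug h).linearMap_comp_eq_zero

def toSingle : cplx h ⟶ (ChainComplex.single₀ _).obj (ModuleCat.of R (R ⧸ Ideal.span {a, b})) :=
  ((cplx h).toSingle₀Equiv _).symm ⟨augHom h, d_augHom h⟩

lemma quasiIso_toSingle : QuasiIso (toSingle h) where
  quasiIsoAt m := by
    cases m with
    | zero =>
      rw [ChainComplex.quasiIsoAt₀_iff, ShortComplex.quasiIso_iff_of_zeros' _ rfl rfl rfl]
      constructor
      · rw [ShortComplex.ShortExact.moduleCat_exact_iff_function_exact]
        show Function.Exact ((cplx h).d 1 0).hom ((toSingle h).f 0).hom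
        rw [cplx_d]
        simp [toSingle, ChainComplex.toSingle₀Equiv]
        exact (exact_aug h :)
      · rw [ModuleCat.epi_iff_surjective]
        simp [toSingle, ChainComplex.toSingle₀Equiv]
        exact Submodule.mkQ_surjective _
    | succ m =>
      rw [quasiIsoAt_iff_exactAt' (hL := ChainComplex.exactAt_succ_single_obj ..),
        HomologicalComplex.exactAt_iff' _ (m + 2) (m + 1) m (by simp) (by simp),
        ShortComplex.ShortExact.moduleCat_exact_iff_function_exact]
      show Function.Exact ((cplx h).d (m + 2) (m + 1)).hom ((cplx h).d (m + 1) m).hom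
      rw [cplx_d, cplx_d]
      exact exact_d h m

def projRes : ProjectiveResolution (ModuleCat.of R (R ⧸ Ideal.span {a, b})) where
  complex := cplx h
  projective i := by
    cases i with
    | zero => exact inferInstanceAs (Projective (ModuleCat.of R R))
    | succ i => exact inferInstanceAs (Projective (ModuleCat.of R (R × R)))
  π := toSingle h
  quasiIso := quasiIso_toSingle h

omit h in
lemma lTensor_eq_zero {M N : Type u} [AddCommGroup M] [Module R M] [AddCommGroup N] [Module R N]
    (f : M →ₗ[R] N) (hf : ∀ m, f m ∈ Ideal.span {a, b} • (⊤ : Submodule R N)) :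
    f.lTensor (R ⧸ Ideal.span {a, b}) = 0 := by
  refine TensorProduct.ext' fun q m => ?_
  rw [LinearMap.lTensor_tmul, LinearMap.zero_apply]
  refine Submodule.smul_induction_on (hf m) (fun r hr n _ => ?_) fun x y hx hy => by rw [tmul_add, hx, hy, add_zero]
  obtain ⟨p, rfl⟩ := Ideal.Quotient.mk_surjective q
  rw [← smul_tmul, Algebra.smul_def, Ideal.Quotient.algebraMap_eq, Ideal.Quotient.eq_zero_iff_mem.2 hr, zero_mul,
    zero_tmul]

omit h in
lemma diagMap_mem (p : R × R) : diagMap a b p ∈ Ideal.span {a, b} • (⊤ : Submodule R (R × R)) := by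
  have : diagMap a b p = b • (p.1, (0 : R)) + a • ((0 : R), p.2) := by
    ext <;> simp [diagMap_apply]
  rw [this]
  exact add_mem (Submodule.smul_mem_smul (Ideal.subset_span (by simp)) Submodule.mem_top)
    (Submodule.smul_mem_smul (Ideal.subset_span (by simp)) Submodule.mem_top)

omit h in
lemma d_mem (i : ℕ) (x : X (R := R) (i + 1)) : (d a b i).hom x ∈ Ideal.span {a, b} • (⊤ : Submodule R (X (R := R) i)) := by
  cases i with
  | zero =>
    show a * (x : R × R).1 + b * (x : R × R).2 ∈ Ideal.span {a, b} • (⊤ : Submodule R R)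
    exact add_mem (Submodule.smul_mem_smul (Ideal.subset_span (by simp)) Submodule.mem_top)
      (Submodule.smul_mem_smul (Ideal.subset_span (by simp)) Submodule.mem_top)
  | succ i =>
    show (if Even i then diagMap a b else diagMap b a) x ∈ Ideal.span {a, b} • (⊤ : Submodule R (R × R))
    split_ifs with hi
    · exact diagMap_mem _
    · rw [Set.pair_comm a b]
      exact diagMap_mem _

theorem length_tor (hm : (Ideal.span {a, b}).IsMaximal) (i : ℕ) :
    Module.length R (((CategoryTheory.Tor (ModuleCat.{u} R) (i + 1)).obj (ModuleCat.of R (R ⧸ Ideal.span {a, b}))).obj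
      (ModuleCat.of R (R ⧸ Ideal.span {a, b}))) = 2 := by
  let A := R ⧸ Ideal.span {a, b}
  let T := (MonoidalCategory.tensoringLeft (ModuleCat.{u} R)).obj (ModuleCat.of R A)
  let K := (T.mapHomologicalComplex (ComplexShape.down ℕ)).obj (projRes h).complex
  have hd : ∀ p q, K.d p q = 0 := by
    intro p q
    by_cases hpq : q + 1 = p
    · subst hpq
      show T.map ((cplx h).d (q + 1) q) = 0
      rw [cplx_d]
      exact ModuleCat.hom_ext (lTensor_eq_zero (d a b q).hom (d_mem q))
    · exact K.shape p q hpq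
  have e : ((CategoryTheory.Tor (ModuleCat.{u} R) (i + 1)).obj (ModuleCat.of R A)).obj (ModuleCat.of R A) ≅ K.X (i + 1) :=
    (projRes h).isoLeftDerivedObj T (i + 1) ≪≫
      (ShortComplex.HomologyData.ofZeros (K.sc (i + 1)) (hd _ _) (hd _ _)).left.homologyIso
  rw [e.toLinearEquiv.length_eq]
  show Module.length R (A ⊗[R] (R × R)) = _
  rw [(TensorProduct.prodRight R R A R R).length_eq, Module.length_prod, (TensorProduct.rid R A).length_eq]
  haveI : IsSimpleModule R A := isSimpleModule_iff_isCoatom.mpr hm.out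
  simp [Module.length_eq_one]
  rfl

end Groth.Agent.TorNode
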